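import Mathlib
import Groth.Prelude.Def_GmPts

/-!
# Points of the base change of an affine `ℤ`-scheme: ring maps into global functions
-/

open CategoryTheory CategoryTheory.Limits MonoidalCategory CartesianMonoidalCategory MonObj
  AlgebraicGeometry Opposite

namespace Groth.Agent.Lib.Helper6.GaGm

universe u

noncomputable section

variable {S : Scheme.{u}} {A : CommRingCat.{u}} (f : Spec A ⟶ GmPts.baseZ.{u})

/-- The base change to `S` of `Spec A ⟶ Spec ℤ`. -/
abbrev bcObj (S : Scheme.{u}) : Over S := Red.bc (GmPts.toBaseZ S) (Over.mk f)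

variable {T T' : Over S}

/-- The component `T.left ⟶ Spec A` of a point. -/
abbrev specPt (x : T ⟶ bcObj f S) : T.left ⟶ Spec A :=
  x.left ≫ pullback.fst f (GmPts.toBaseZ S)

/-- The ring map classified by a point. -/
def homOfPt (x : T ⟶ bcObj f S) : A ⟶ Γ(T.left, ⊤) :=
  (Scheme.ΓSpecIso A).inv ≫ (specPt f x).appTop

/-- The morphism to `Spec A` of a ring map. -/
def specOfHom (ψ : A ⟶ Γ(T.left, ⊤)) : T.left ⟶ Spec A :=
  ΓSpec.adjunction.homEquiv T.left (op A) ψ.op

theorem ΓSpecIso_inv_specOfHom (ψ : A ⟶ Γ(T.left, ⊤)) :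
    (Scheme.ΓSpecIso A).inv ≫ (specOfHom (T := T) ψ).appTop = ψ :=
  ΓSpecIso_inv_ΓSpec_adjunction_homEquiv _

/-- The point of a ring map. -/
def ptOfHom (ψ : A ⟶ Γ(T.left, ⊤)) : T ⟶ bcObj f S :=
  Over.homMk (pullback.lift (specOfHom (T := T) ψ) T.hom (specULiftZIsTerminal.hom_ext _ _))
    (pullback.lift_snd _ _ _)

theorem specPt_ptOfHom (ψ : A ⟶ Γ(T.left, ⊤)) : specPt f (ptOfHom f ψ) = specOfHom (T := T) ψ :=
  pullback.lift_fst _ _ _

theorem homOfPt_ptOfHom (ψ : A ⟶ Γ(T.left, ⊤)) : homOfPt f (ptOfHom f ψ) = ψ := by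
  unfold homOfPt
  rw [specPt_ptOfHom, ΓSpecIso_inv_specOfHom]

theorem specOfHom_homOfPt (x : T ⟶ bcObj f S) : specOfHom (T := T) (homOfPt f x) = specPt f x := by
  have h : (homOfPt f x).op = (ΓSpec.adjunction.homEquiv T.left (op A)).symm (specPt f x) := by
    rw [Adjunction.homEquiv_counit, ΓSpec.adjunction_counit_app]
    rfl
  rw [specOfHom, h, Equiv.apply_symm_apply]

theorem ptOfHom_homOfPt (x : T ⟶ bcObj f S) : ptOfHom f (homOfPt f x) = x := by
  ext1
  apply pullback.hom_ext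
  · exact (specPt_ptOfHom f _).trans (specOfHom_homOfPt f x)
  · exact (pullback.lift_snd _ _ _).trans (Over.w x).symm

theorem homOfPt_comp (g : T' ⟶ T) (x : T ⟶ bcObj f S) :
    homOfPt f (g ≫ x) = homOfPt f x ≫ g.left.appTop := by
  unfold homOfPt
  change (Scheme.ΓSpecIso A).inv ≫ ((g ≫ x).left ≫ pullback.fst f (GmPts.toBaseZ S)).appTop = _
  rw [Over.comp_left, Category.assoc, Scheme.Hom.comp_appTop, Category.assoc]

theorem homOfPt_injective : Function.Injective (homOfPt f (T := T)) := fun a b hab => by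
  rw [← ptOfHom_homOfPt f a, ← ptOfHom_homOfPt f b, hab]

end

end Groth.Agent.Lib.Helper6.GaGm
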