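import Mathlib
import Groth.Prelude.Def_GmPts
import Groth.Agent.Lib.Helper6.GaGm.BcPts

/-!
# The group law on points of the base change of an affine group over `ℤ`
-/

open CategoryTheory CategoryTheory.Limits MonoidalCategory CartesianMonoidalCategory MonObj
  AlgebraicGeometry Opposite
open scoped TensorProduct

namespace Groth.Agent.Lib.Helper6.GaGm

universe u

noncomputable section

attribute [-instance] ULift.module

variable (A : Type u) [CommRing A] [HopfAlgebra (ULift.{u} ℤ) A]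

/-- The affine group `Spec A` over `ℤ`. -/
abbrev GZ : Over GmPts.baseZ.{u} :=
  (Spec (CommRingCat.of A)).asOver (Spec (CommRingCat.of (ULift.{u} ℤ)))

/-- Its structure map. -/
abbrev fZ : Spec (CommRingCat.of A) ⟶ GmPts.baseZ.{u} := (GZ A).hom

variable {A} {S : Scheme.{u}} {T : Over S}

/-- The pair of two points, as a map to the product over `ℤ`. -/
def pairPt (x y : T ⟶ Red.bc (GmPts.toBaseZ S) (GZ A)) : T.left ⟶ (GZ A ⊗ GZ A).left :=
  (lift x y).left ≫ (Functor.LaxMonoidal.μ (Over.pullback (GmPts.toBaseZ S)) (GZ A) (GZ A)).left ≫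
    pullback.fst (GZ A ⊗ GZ A).hom (GmPts.toBaseZ S)

theorem specPt_mul (x y : T ⟶ Red.bc (GmPts.toBaseZ S) (GZ A)) :
    specPt (fZ A) (x * y) = pairPt x y ≫ μ[GZ A].left := by
  have h1 : x * y = lift x y ≫ μ[Red.bc (GmPts.toBaseZ S) (GZ A)] := Hom.mul_def x y
  have h2 : μ[Red.bc (GmPts.toBaseZ S) (GZ A)] =
      Functor.LaxMonoidal.μ (Over.pullback (GmPts.toBaseZ S)) (GZ A) (GZ A) ≫
      (Over.pullback (GmPts.toBaseZ S)).map μ[GZ A] := rfl
  have h3 := GmPts.pullback_map_left_fst (S := S) μ[GZ A]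
  rw [specPt, pairPt, h1, h2, Over.comp_left, Over.comp_left]
  simp only [Category.assoc]
  exact _ ≫= (_ ≫= h3)

theorem pairPt_fst (x y : T ⟶ Red.bc (GmPts.toBaseZ S) (GZ A)) :
    pairPt x y ≫ pullback.fst (GZ A).hom (GZ A).hom = specPt (fZ A) x := by
  rw [pairPt, Category.assoc, Category.assoc, Over.μ_pullback_left_fst_fst, ← Category.assoc]
  congr 1
  rw [← Over.fst_left, ← Over.comp_left, lift_fst]

theorem pairPt_snd (x y : T ⟶ Red.bc (GmPts.toBaseZ S) (GZ A)) :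
    pairPt x y ≫ pullback.snd (GZ A).hom (GZ A).hom = specPt (fZ A) y := by
  rw [pairPt, Category.assoc, Category.assoc, Over.μ_pullback_left_fst_snd, ← Category.assoc]
  congr 1
  rw [← Over.snd_left, ← Over.comp_left, lift_snd]

theorem specMap_appTop_ΓSpecIso_inv {B R : CommRingCat.{u}} (φ : B ⟶ R) (c : B) :
    (Spec.map φ).appTop ((Scheme.ΓSpecIso B).inv c) = (Scheme.ΓSpecIso R).inv (φ c) := by
  have h := congrArg (fun ψ => (ConcreteCategory.hom ψ) c) (Scheme.ΓSpecIso_inv_naturality φ)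
  exact h.symm

/-- The multiplication pulls `a` back to `∑ pᵢ ⊗ qᵢ` if `Δ a = ∑ pᵢ ⊗ qᵢ`. -/
theorem mul_appTop {J : Type*} (s : Finset J) (p q : J → A) (a : A)
    (h : Coalgebra.comul (R := ULift.{u} ℤ) a = ∑ i ∈ s, p i ⊗ₜ[ULift.{u} ℤ] q i) :
    μ[GZ A].left.appTop ((Scheme.ΓSpecIso (CommRingCat.of A)).inv a) =
      ∑ i ∈ s, (pullback.fst (GZ A).hom (GZ A).hom).appTop
          ((Scheme.ΓSpecIso (CommRingCat.of A)).inv (p i)) *
        (pullback.snd (GZ A).hom (GZ A).hom).appTop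
          ((Scheme.ΓSpecIso (CommRingCat.of A)).inv (q i)) := by
  let CC : Type u := A ⊗[ULift.{u} ℤ] A
  let iL : A →+* CC := Algebra.TensorProduct.includeLeftRingHom
  let iR : A →+* CC :=
    ((Algebra.TensorProduct.includeRight (R := ULift.{u} ℤ) (A := A) (B := A) :
      A →ₐ[ULift.{u} ℤ] CC) : A →+* CC)
  let fC : Spec (CommRingCat.of A) ⟶ GmPts.baseZ.{u} :=
    Spec.map (CommRingCat.ofHom (algebraMap (ULift.{u} ℤ) A))
  let psi := pullbackSpecIso (ULift.{u} ℤ) A A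
  have hfst : pullback.fst fC fC =
      psi.hom ≫ Spec.map (CommRingCat.ofHom (R := A) (S := CC) iL) := by
    rw [← pullbackSpecIso_inv_fst, Iso.hom_inv_id_assoc]
  have hsnd : pullback.snd fC fC =
      psi.hom ≫ Spec.map (CommRingCat.ofHom (R := A) (S := CC) iR) := by
    rw [← pullbackSpecIso_inv_snd, Iso.hom_inv_id_assoc]
  have hc : (CommRingCat.ofHom (Bialgebra.comulAlgHom (ULift.{u} ℤ) A).toRingHom) a =
      ∑ i ∈ s, (CommRingCat.ofHom (R := A) (S := CC) iL) (p i) *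
        (CommRingCat.ofHom (R := A) (S := CC) iR) (q i) := by
    change Coalgebra.comul (R := ULift.{u} ℤ) a =
      ∑ i ∈ s, (p i ⊗ₜ[ULift.{u} ℤ] (1 : A)) * ((1 : A) ⊗ₜ[ULift.{u} ℤ] q i)
    rw [h]
    refine Finset.sum_congr rfl fun i _ => ?_
    rw [Algebra.TensorProduct.tmul_mul_tmul, _root_.mul_one, _root_.one_mul]
  change (psi.hom ≫ Spec.map (CommRingCat.ofHom
      (Bialgebra.comulAlgHom (ULift.{u} ℤ) A).toRingHom)).appTop
      ((Scheme.ΓSpecIso (CommRingCat.of A)).inv a) =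
    ∑ i ∈ s, (pullback.fst fC fC).appTop ((Scheme.ΓSpecIso (CommRingCat.of A)).inv (p i)) *
      (pullback.snd fC fC).appTop ((Scheme.ΓSpecIso (CommRingCat.of A)).inv (q i))
  rw [hfst, hsnd, GmPts.appTop_comp_apply, specMap_appTop_ΓSpecIso_inv, hc, map_sum, map_sum]
  refine Finset.sum_congr rfl fun i _ => ?_
  rw [GmPts.appTop_comp_apply, GmPts.appTop_comp_apply,
    specMap_appTop_ΓSpecIso_inv, specMap_appTop_ΓSpecIso_inv, map_mul, map_mul]

/-- The ring map of a product of points is the convolution product. -/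
theorem homOfPt_mul_apply (x y : T ⟶ Red.bc (GmPts.toBaseZ S) (GZ A))
    {J : Type*} (s : Finset J) (p q : J → A) (a : A)
    (h : Coalgebra.comul (R := ULift.{u} ℤ) a = ∑ i ∈ s, p i ⊗ₜ[ULift.{u} ℤ] q i) :
    (homOfPt (fZ A) (x * y)).hom a =
      ∑ i ∈ s, (homOfPt (fZ A) x).hom (p i) * (homOfPt (fZ A) y).hom (q i) := by
  have e1 : (homOfPt (fZ A) (x * y)).hom a =
      (pairPt x y).appTop (μ[GZ A].left.appTop ((Scheme.ΓSpecIso (CommRingCat.of A)).inv a)) := by
    change (specPt (fZ A) (x * y)).appTop ((Scheme.ΓSpecIso (CommRingCat.of A)).inv a) = _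
    rw [specPt_mul]
    exact GmPts.appTop_comp_apply _ _ _
  rw [e1, mul_appTop s p q a h, map_sum]
  refine Finset.sum_congr rfl fun i _ => ?_
  rw [map_mul, ← GmPts.appTop_comp_apply, ← GmPts.appTop_comp_apply, pairPt_fst, pairPt_snd]
  rfl

end

end Groth.Agent.Lib.Helper6.GaGm
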