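import Mathlib
import Groth.Prelude.Def_GmPts
import Groth.Agent.Lib.Helper6.GaGm.BcPts

/-!
# Points of the additive group are global functions
-/

open CategoryTheory CategoryTheory.Limits MonoidalCategory CartesianMonoidalCategory MonObj
  AlgebraicGeometry Opposite

namespace Groth.Agent.Lib.Helper6.GaGm

universe u

noncomputable section

set_option linter.style.haveILetI false

/-- The coordinate ring `ℤ[X]` of the additive group. -/
abbrev Sym : Type u := SymmetricAlgebra (ULift.{u} ℤ) (ULift.{u} ℤ)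

/-- The coordinate. -/
def genA : Sym.{u} := SymmetricAlgebra.ι (ULift.{u} ℤ) (ULift.{u} ℤ) (ULift.up 1)

lemma ulift_ringHom_ext {R : Type*} [Semiring R] (a b : ULift.{u} ℤ →+* R) : a = b := by
  have h := RingHom.ext_int (a.comp (ULift.ringEquiv : ULift.{u} ℤ ≃+* ℤ).symm.toRingHom)
    (b.comp (ULift.ringEquiv : ULift.{u} ℤ ≃+* ℤ).symm.toRingHom)
  ext z
  exact congrArg (fun φ : ℤ →+* R => φ z.down) h

attribute [local instance] ULift.algebra'

/-- The ring map `ℤ[X] → R` sending `X` to `r`. -/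
def ringHomOfElem {R : Type u} [CommRing R] (r : R) : Sym.{u} →+* R :=
  (SymmetricAlgebra.lift (LinearMap.toSpanSingleton (ULift.{u} ℤ) R r)).toRingHom

lemma ringHomOfElem_genA {R : Type u} [CommRing R] (r : R) : ringHomOfElem r genA = r := by
  change SymmetricAlgebra.lift (LinearMap.toSpanSingleton (ULift.{u} ℤ) R r)
    (SymmetricAlgebra.ι _ _ (ULift.up 1)) = r
  rw [SymmetricAlgebra.lift_ι_apply, LinearMap.toSpanSingleton_apply]
  exact one_smul _ r

lemma ringHom_ext_genA {R : Type u} [CommRing R] {f g : Sym.{u} →+* R} (h : f genA = g genA) :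
    f = g := by
  have hf : ∀ z, f (algebraMap (ULift.{u} ℤ) Sym.{u} z) = algebraMap (ULift.{u} ℤ) R z := fun z =>
    congrArg (fun φ : ULift.{u} ℤ →+* R => φ z)
      (ulift_ringHom_ext (f.comp (algebraMap _ _)) (algebraMap _ _))
  have hg : ∀ z, g (algebraMap (ULift.{u} ℤ) Sym.{u} z) = algebraMap (ULift.{u} ℤ) R z := fun z =>
    congrArg (fun φ : ULift.{u} ℤ →+* R => φ z)
      (ulift_ringHom_ext (g.comp (algebraMap _ _)) (algebraMap _ _))
  let F : Sym.{u} →ₐ[ULift.{u} ℤ] R := { f with commutes' := hf }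
  let G : Sym.{u} →ₐ[ULift.{u} ℤ] R := { g with commutes' := hg }
  have hFG : F = G := by
    apply SymmetricAlgebra.algHom_ext
    apply LinearMap.ext_ring
    exact h
  exact congrArg (fun φ : Sym.{u} →ₐ[ULift.{u} ℤ] R => (φ : Sym.{u} →+* R)) hFG

/-- The structure map of `𝔾_a` over `ℤ`. -/
abbrev fGa : Spec (CommRingCat.of Sym.{u}) ⟶ GmPts.baseZ.{u} := Red.GaZ.{u}.hom

variable {S : Scheme.{u}} {T T' : Over S}

example : Red.Ga S = bcObj fGa S := rfl

/-- The function of a point (this is `Red.gaFn`). -/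
def fnOfPt (x : T ⟶ Red.Ga S) : Γ(T.left, ⊤) :=
  (homOfPt fGa x).hom genA

lemma fnOfPt_eq_gaFn (x : T ⟶ Red.Ga S) : fnOfPt x = Red.gaFn x := rfl

/-- The point of a function. -/
def ptOfFn (r : Γ(T.left, ⊤)) : T ⟶ Red.Ga S :=
  ptOfHom fGa (T := T) (CommRingCat.ofHom (ringHomOfElem r))

lemma fnOfPt_ptOfFn (r : Γ(T.left, ⊤)) : fnOfPt (ptOfFn (T := T) r) = r := by
  unfold fnOfPt ptOfFn
  rw [homOfPt_ptOfHom]
  exact ringHomOfElem_genA r

lemma ptOfFn_fnOfPt (x : T ⟶ Red.Ga S) : ptOfFn (fnOfPt x) = x := by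
  unfold ptOfFn
  have : CommRingCat.ofHom (ringHomOfElem (fnOfPt x)) = homOfPt fGa x := by
    ext1
    apply ringHom_ext_genA
    rw [CommRingCat.hom_ofHom, ringHomOfElem_genA]
    rfl
  rw [this]
  exact ptOfHom_homOfPt fGa x

lemma fnOfPt_comp (g : T' ⟶ T) (x : T ⟶ Red.Ga S) :
    fnOfPt (g ≫ x) = g.left.appTop.hom (fnOfPt x) := by
  unfold fnOfPt
  have := homOfPt_comp fGa g x
  exact congrArg (fun ψ : CommRingCat.of Sym.{u} ⟶ Γ(T'.left, ⊤) => ψ.hom genA) this

lemma fnOfPt_injective : Function.Injective (fnOfPt (T := T)) := fun a b hab => by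
  rw [← ptOfFn_fnOfPt a, ← ptOfFn_fnOfPt b, hab]

end

end Groth.Agent.Lib.Helper6.GaGm
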