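import Mathlib
import Groth.Prelude.Def_GmPts
import Groth.Agent.Lib.Helper6.GaGm.BcGrp
import Groth.Agent.Lib.Helper6.GaGm.GaPts

/-!
# The group of points of the additive group is the additive group of global functions
-/

open CategoryTheory CategoryTheory.Limits MonoidalCategory CartesianMonoidalCategory MonObj
  AlgebraicGeometry Opposite
open scoped TensorProduct

namespace Groth.Agent.Lib.Helper6.GaGm

universe u

noncomputable section

attribute [-instance] ULift.module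

variable {S : Scheme.{u}} {T T' : Over S}

theorem fnOfPt_mul (x y : T ⟶ Red.Ga S) : fnOfPt (x * y) = fnOfPt x + fnOfPt y := by
  have key := homOfPt_mul_apply (A := Sym.{u}) x y (Finset.univ : Finset (Fin 2))
    ![genA, 1] ![1, genA] genA (by
      rw [Fin.sum_univ_two]
      exact SymmetricAlgebra.comul_ι (ULift.{u} ℤ) (ULift.{u} ℤ) (ULift.up 1))
  rw [Fin.sum_univ_two] at key
  simp only [Matrix.cons_val_zero, Matrix.cons_val_one, map_one, _root_.mul_one,
    _root_.one_mul] at key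
  exact key

theorem fnOfPt_one : fnOfPt (1 : T ⟶ Red.Ga S) = 0 := by
  have h := fnOfPt_mul (1 : T ⟶ Red.Ga S) 1
  have e : (1 : T ⟶ Red.Ga S) * 1 = 1 := _root_.mul_one (1 : T ⟶ Red.Ga S)
  rw [e] at h
  exact left_eq_add.mp h

theorem fnOfPt_inv (x : T ⟶ Red.Ga S) : fnOfPt x⁻¹ = - fnOfPt x := by
  have h := fnOfPt_mul x⁻¹ x
  have e : x⁻¹ * x = 1 := inv_mul_cancel x
  rw [e, fnOfPt_one] at h
  exact eq_neg_of_add_eq_zero_left h.symm

theorem fnOfPt_div (x y : T ⟶ Red.Ga S) : fnOfPt (x / y) = fnOfPt x - fnOfPt y := by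
  have e : x / y = x * y⁻¹ := div_eq_mul_inv x y
  rw [e, fnOfPt_mul, fnOfPt_inv, sub_eq_add_neg]

theorem ptOfFn_add (a b : Γ(T.left, ⊤)) :
    ptOfFn (S := S) (T := T) (a + b) = ptOfFn a * ptOfFn b := by
  apply fnOfPt_injective
  rw [fnOfPt_mul, fnOfPt_ptOfFn, fnOfPt_ptOfFn, fnOfPt_ptOfFn]

theorem ptOfFn_zero : ptOfFn (S := S) (T := T) 0 = 1 := by
  apply fnOfPt_injective
  rw [fnOfPt_one, fnOfPt_ptOfFn]

theorem ptOfFn_neg (a : Γ(T.left, ⊤)) : ptOfFn (S := S) (T := T) (-a) = (ptOfFn a)⁻¹ := by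
  apply fnOfPt_injective
  rw [fnOfPt_inv, fnOfPt_ptOfFn, fnOfPt_ptOfFn]

/-- Points of the additive group are global functions, as groups. -/
def gaEquiv (T : Over S) : (T ⟶ Red.Ga S) ≃* Multiplicative Γ(T.left, ⊤) where
  toFun x := Multiplicative.ofAdd (fnOfPt x)
  invFun a := ptOfFn a.toAdd
  left_inv x := ptOfFn_fnOfPt x
  right_inv a := congrArg Multiplicative.ofAdd (fnOfPt_ptOfFn a.toAdd)
  map_mul' x y := congrArg Multiplicative.ofAdd (fnOfPt_mul x y)

/-- `Red.gaFn` versions. -/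
theorem gaFn_mul (x y : T ⟶ Red.Ga S) : Red.gaFn (x * y) = Red.gaFn x + Red.gaFn y :=
  fnOfPt_mul x y

theorem gaFn_one : Red.gaFn (1 : T ⟶ Red.Ga S) = 0 := fnOfPt_one

theorem gaFn_inv (x : T ⟶ Red.Ga S) : Red.gaFn x⁻¹ = - Red.gaFn x := fnOfPt_inv x

theorem gaFn_injective : Function.Injective (Red.gaFn (S := S) (X := T)) := fnOfPt_injective

theorem gaFn_comp (g : T' ⟶ T) (x : T ⟶ Red.Ga S) :
    Red.gaFn (g ≫ x) = g.left.appTop.hom (Red.gaFn x) := fnOfPt_comp g x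

theorem exists_gaFn_eq (a : Γ(T.left, ⊤)) : ∃ x : T ⟶ Red.Ga S, Red.gaFn x = a :=
  ⟨ptOfFn a, fnOfPt_ptOfFn a⟩

end

end Groth.Agent.Lib.Helper6.GaGm
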