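import Mathlib
import Groth.Prelude.Def_GmPts

/-!
# Affine test objects over `Spec k` and the canonical map to the affinization
-/

open CategoryTheory CategoryTheory.Limits MonoidalCategory CartesianMonoidalCategory MonObj
  AlgebraicGeometry Opposite

namespace Groth.Agent.Lib.Helper6.GaGm

universe u

section Generic

variable {C : Type*} [Category C] [CartesianMonoidalCategory C] {G : C}

lemma one_left (h : MonObj G) {A : C} (f : A ⟶ 𝟙_ C) (g : A ⟶ G) :
    lift (f ≫ h.one) g ≫ h.mul = g := by
  letI := h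
  exact MonObj.lift_comp_one_left f g

lemma one_right (h : MonObj G) {A : C} (f : A ⟶ 𝟙_ C) (g : A ⟶ G) :
    lift g (f ≫ h.one) ≫ h.mul = g := by
  letI := h
  exact MonObj.lift_comp_one_right g f

lemma lift_assoc (h : MonObj G) {A : C} (f g l : A ⟶ G) :
    lift (lift f g ≫ h.mul) l ≫ h.mul = lift f (lift g l ≫ h.mul) ≫ h.mul := by
  letI := h
  exact MonObj.lift_lift_assoc f g l

lemma inv_left (h : GrpObj G) {A : C} (f : A ⟶ G) :
    lift (f ≫ h.inv) f ≫ h.mul = toUnit _ ≫ h.one := by
  letI := h
  exact GrpObj.lift_comp_inv_left f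

end Generic

variable (k : Type u) [Field k]

/-- The base scheme. -/
noncomputable abbrev Sk : Scheme.{u} := Spec (CommRingCat.of k)

/-- The affine test object attached to a ring map out of `k`. -/
noncomputable def TR {R : CommRingCat.{u}} (φ : CommRingCat.of k ⟶ R) : Over (Sk k) :=
  Over.mk (Spec.map φ)

/-- Functoriality of the test objects. -/
noncomputable def TRmap {R R' : CommRingCat.{u}} (φ : CommRingCat.of k ⟶ R)
    (φ' : CommRingCat.of k ⟶ R') (g : R ⟶ R') (hg : φ ≫ g = φ') : TR k φ' ⟶ TR k φ :=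
  Over.homMk (Spec.map g) (by
    change Spec.map g ≫ Spec.map φ = Spec.map φ'
    rw [← Spec.map_comp, hg])

/-- The structure map `k → Γ(T)` of an object over `Spec k`. -/
noncomputable def φT (T : Over (Sk k)) : CommRingCat.of k ⟶ Γ(T.left, ⊤) :=
  (Scheme.ΓSpecIso (CommRingCat.of k)).inv ≫ T.hom.appTop

/-- The canonical morphism to the affinization. -/
noncomputable def can (T : Over (Sk k)) : T ⟶ TR k (φT k T) :=
  Over.homMk T.left.toSpecΓ (by
    change T.left.toSpecΓ ≫ Spec.map ((Scheme.ΓSpecIso (CommRingCat.of k)).inv ≫ T.hom.appTop)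
      = T.hom
    rw [Spec.map_comp, ← Category.assoc, ← Scheme.toSpecΓ_naturality, Category.assoc,
      toSpecΓ_SpecMap_ΓSpecIso_inv, Category.comp_id])

lemma can_left_appTop (T : Over (Sk k)) :
    (can k T).left.appTop = (Scheme.ΓSpecIso Γ(T.left, ⊤)).hom :=
  Scheme.toSpecΓ_appTop T.left

end Groth.Agent.Lib.Helper6.GaGm
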