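import Mathlib

/-!
# Natural group laws on the additive functor of a field

A natural group structure on the underlying sets of all `k`-algebras with identity element `c` is
`(a, b) ↦ a + b - c`.
-/

open Polynomial

namespace Groth.Agent.Lib.Helper6.GaGm

universe u

section AbstractGa

variable (k : Type u) [Field k]
variable (op : ∀ (B : Type u) [CommRing B] [Algebra k B], B → B → B) (c : k)
  (hnat : ∀ (B B' : Type u) [CommRing B] [CommRing B'] [Algebra k B] [Algebra k B']
    (g : B →ₐ[k] B') (a b : B), g (op B a b) = op B' (g a) (g b))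
  (hleft : ∀ (B : Type u) [CommRing B] [Algebra k B] (a : B), op B (algebraMap k B c) a = a)
  (hright : ∀ (B : Type u) [CommRing B] [Algebra k B] (a : B), op B a (algebraMap k B c) = a)
  (hassoc : ∀ (B : Type u) [CommRing B] [Algebra k B] (a b d : B),
    op B (op B a b) d = op B a (op B b d))
  (hinv : ∀ (B : Type u) [CommRing B] [Algebra k B] (a : B), ∃ a', op B a' a = algebraMap k B c)

include hnat hleft hright hassoc hinv in
theorem add_op_eq (B : Type u) [CommRing B] [Algebra k B] (a b : B) :
    op B a b = a + b - algebraMap k B c := by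
  obtain ⟨I, hI⟩ := hinv k[X] (X : k[X])
  -- the universal product
  have hP : op k[X][X] (C (X : k[X])) (X : k[X][X]) =
      (X : k[X][X]) + C (X : k[X]) - C (C c) := by
    obtain ⟨P, hPdef⟩ : ∃ P : k[X][X], op k[X][X] (C (X : k[X])) (X : k[X][X]) = P := ⟨_, rfl⟩
    obtain ⟨Q, hQdef⟩ : ∃ Q : k[X][X], op k[X][X] (C I) (X : k[X][X]) = Q := ⟨_, rfl⟩
    rw [hPdef]
    -- `C I` is an inverse of `C X`
    have hIx : op k[X][X] (C I) (C (X : k[X])) = algebraMap k k[X][X] c := by
      have := hnat k[X] k[X][X] (CAlgHom (R := k) (A := k[X])) I X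
      rw [hI] at this
      exact this.symm.trans ((CAlgHom (R := k) (A := k[X])).commutes c)
    -- substitution `Y ↦ P`
    have hσ : Q.comp P = (X : k[X][X]) := by
      have := hnat k[X][X] k[X][X] ((aeval (R := k[X]) P).restrictScalars k) (C I) (X : k[X][X])
      simp only [AlgHom.restrictScalars_apply, aeval_C, aeval_X] at this
      rw [hQdef] at this
      rw [comp_eq_aeval, this]
      change op k[X][X] (C I) P = _
      rw [← hPdef, ← hassoc, hIx, hleft]
    have hdeg := congrArg natDegree hσ
    rw [natDegree_comp, natDegree_X] at hdeg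
    have hdP : P.natDegree = 1 := Nat.eq_one_of_mul_eq_one_left hdeg
    have hdQ : Q.natDegree = 1 := Nat.eq_one_of_mul_eq_one_right hdeg
    have hlc := congrArg leadingCoeff hσ
    rw [leadingCoeff_comp (by rw [hdP]; exact one_ne_zero), hdQ, pow_one, leadingCoeff_X] at hlc
    have hunit : IsUnit P.leadingCoeff := IsUnit.of_mul_eq_one _ ((mul_comm _ _).trans hlc)
    obtain ⟨α, -, hα⟩ := Polynomial.isUnit_iff.mp hunit
    have hform := eq_X_add_C_of_natDegree_le_one hdP.le
    have hc1 : P.coeff 1 = C α := by
      rw [hα, leadingCoeff, hdP]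
    rw [hc1] at hform
    -- evaluate `Y ↦ c`
    have hτ : (X : k[X]) = C α * C c + P.coeff 0 := by
      have := hnat k[X][X] k[X] ((aeval (R := k[X]) (C c : k[X])).restrictScalars k)
        (C (X : k[X])) (X : k[X][X])
      simp only [AlgHom.restrictScalars_apply, aeval_C, aeval_X] at this
      have h2 : op k[X] (X : k[X]) (C c) = X := hright k[X] X
      rw [Algebra.algebraMap_self, RingHom.id_apply, h2, hPdef] at this
      have e1 : aeval (R := k[X]) (C c : k[X]) P = C α * C c + P.coeff 0 := by
        conv_lhs => rw [hform]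
        simp
      exact this.symm.trans e1
    -- evaluate `X ↦ c`
    have hρ : (X : k[X]) = C α * X + C ((P.coeff 0).eval c) := by
      have := hnat k[X][X] k[X] (mapAlgHom (aeval (R := k) c : k[X] →ₐ[k] k))
        (C (X : k[X])) (X : k[X][X])
      have h2 : op k[X] (C c) (X : k[X]) = X := hleft k[X] X
      rw [hPdef] at this
      simp only [coe_mapAlgHom, map_C, map_X] at this
      simp only [coe_aeval_eq_eval, RingHom.coe_coe, eval_X, h2] at this
      have e1 : P.map (↑(aeval (R := k) c : k[X] →ₐ[k] k) : k[X] →+* k) =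
          C α * X + C ((P.coeff 0).eval c) := by
        conv_lhs => rw [hform]
        simp
      exact this.symm.trans e1
    have hα1 : α = 1 := by
      have := congrArg (fun p : k[X] => p.coeff 1) hρ
      simp at this
      exact this.symm
    subst hα1
    rw [hform]
    have h0 : P.coeff 0 = X - C c := by
      rw [map_one, one_mul] at hτ
      rw [eq_sub_iff_add_eq, add_comm]
      exact hτ.symm
    rw [h0]
    simp only [map_one, one_mul, map_sub]
    ring
  -- specialise
  have := hnat k[X][X] B (aevalAeval a b) (C (X : k[X])) (X : k[X][X])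
  rw [aevalAeval_X, aevalAeval_Y] at this
  rw [← this, hP]
  simp only [map_add, map_sub, aevalAeval_X, aevalAeval_Y]
  rw [add_comm b a]
  congr 1
  change (aevalAeval a b) (algebraMap k k[X][X] c) = _
  exact (aevalAeval a b).commutes c

end AbstractGa

end Groth.Agent.Lib.Helper6.GaGm
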