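import Mathlib

/-!
# Natural group laws on the units functor
-/

open LaurentPolynomial

namespace Groth.Agent.Lib.Helper6.GaGm

universe u

/-- Units of Laurent polynomial rings over a domain are monomials. -/
theorem exists_eq_C_mul_T_of_isUnit {D : Type*} [CommRing D] [IsDomain D] (f : D[T;T⁻¹])
    (hf : IsUnit f) : ∃ (d : Dˣ) (n : ℤ), f = C (d : D) * T n := by
  obtain ⟨g, hfg⟩ := hf.exists_right_inv
  obtain ⟨a, f₀, hf₀⟩ := exists_T_pow f
  obtain ⟨b, g₀, hg₀⟩ := exists_T_pow g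
  have h1 : Polynomial.toLaurent (f₀ * g₀) = Polynomial.toLaurent (Polynomial.X ^ (a + b)) := by
    rw [map_mul, hf₀, hg₀, Polynomial.toLaurent_X_pow]
    calc f * T a * (g * T b) = (f * g) * (T a * T b) := by ring
      _ = T ((a + b : ℕ) : ℤ) := by rw [hfg, one_mul, ← T_add]; norm_cast
  have h2 : f₀ * g₀ = Polynomial.X ^ (a + b) := Polynomial.toLaurent_injective h1
  have h3 : f₀ ∣ Polynomial.X ^ (a + b) := ⟨g₀, h2.symm⟩
  obtain ⟨i, -, hi⟩ := (dvd_prime_pow Polynomial.prime_X _).mp h3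
  obtain ⟨u, hu⟩ := hi.symm
  obtain ⟨d, hd, hdu⟩ := Polynomial.isUnit_iff.mp u.isUnit
  refine ⟨hd.unit, (i : ℤ) - a, ?_⟩
  have h4 : f * T a = C d * T i := by
    rw [← hf₀, ← hu, ← hdu, map_mul, Polynomial.toLaurent_X_pow, Polynomial.toLaurent_C, mul_comm]
  have h5 : f = f * T a * T (-a) := by
    rw [mul_T_assoc, add_neg_cancel, T_zero, mul_one]
  rw [h5, h4, mul_T_assoc, sub_eq_add_neg]
  rfl

lemma C_mul_T_eq_T_one {R : Type*} [CommRing R] [Nontrivial R] (a : R) (m : ℤ)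
    (h : C a * T m = (T 1 : R[T;T⁻¹])) : m = 1 ∧ a = 1 := by
  classical
  rw [← single_eq_C_mul_T, show (T 1 : R[T;T⁻¹]) = .single 1 1 from rfl] at h
  have h1 := congrArg (fun p : R[T;T⁻¹] => p.coeff 1) h
  simp only [AddMonoidAlgebra.coeff_single, Finsupp.single_apply] at h1
  by_cases hm : m = 1
  · subst hm
    exact ⟨rfl, by simpa using h1⟩
  · exfalso
    rw [if_neg hm] at h1
    simp at h1

section Abstract

variable (k : Type u) [Field k]

/-- Evaluation of Laurent polynomials as an algebra homomorphism. -/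
noncomputable def evalAlg {A B : Type u} [CommRing A] [CommRing B] [Algebra k A] [Algebra k B]
    (f : A →ₐ[k] B) (x : Bˣ) : A[T;T⁻¹] →ₐ[k] B :=
  { LaurentPolynomial.eval₂ f.toRingHom x with
    commutes' := fun r => by
      change LaurentPolynomial.eval₂ f.toRingHom x (algebraMap k A[T;T⁻¹] r) = _
      rw [LaurentPolynomial.algebraMap_apply, eval₂_C]
      exact f.commutes r }

lemma evalAlg_C {A B : Type u} [CommRing A] [CommRing B] [Algebra k A] [Algebra k B]
    (f : A →ₐ[k] B) (x : Bˣ) (a : A) : evalAlg k f x (C a) = f a :=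
  eval₂_C _ _ a

lemma evalAlg_T {A B : Type u} [CommRing A] [CommRing B] [Algebra k A] [Algebra k B]
    (f : A →ₐ[k] B) (x : Bˣ) (n : ℤ) : evalAlg k f x (T n) = ((x ^ n : Bˣ) : B) :=
  eval₂_T _ _ n

/-- The unit `T` of a Laurent polynomial ring. -/
noncomputable def unitT (A : Type u) [CommRing A] : (A[T;T⁻¹])ˣ where
  val := T 1
  inv := T (-1)
  val_inv := by rw [← T_add]; exact T_zero
  inv_val := by rw [← T_add]; exact T_zero

lemma unitT_zpow (A : Type u) [CommRing A] (n : ℤ) :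
    ((unitT A ^ n : (A[T;T⁻¹])ˣ) : A[T;T⁻¹]) = T n := by
  obtain ⟨n, rfl | rfl⟩ := n.eq_nat_or_neg
  · rw [zpow_natCast, Units.val_pow_eq_pow_val]
    change (T 1) ^ n = _
    rw [T_pow, mul_one]
  · rw [zpow_neg, zpow_natCast, ← inv_pow, Units.val_pow_eq_pow_val]
    change (T (-1)) ^ n = _
    rw [T_pow, mul_neg, mul_one]

variable (op : ∀ (B : Type u) [CommRing B] [Algebra k B], Bˣ → Bˣ → Bˣ) (c : kˣ)
  (hnat : ∀ (B B' : Type u) [CommRing B] [CommRing B'] [Algebra k B] [Algebra k B']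
    (g : B →ₐ[k] B') (u v : Bˣ),
    Units.map (g : B →* B') (op B u v) =
      op B' (Units.map (g : B →* B') u) (Units.map (g : B →* B') v))
  (hleft : ∀ (B : Type u) [CommRing B] [Algebra k B] (u : Bˣ),
    op B (Units.map (algebraMap k B : k →* B) c) u = u)
  (hright : ∀ (B : Type u) [CommRing B] [Algebra k B] (u : Bˣ),
    op B u (Units.map (algebraMap k B : k →* B) c) = u)

include hnat hleft hright in
theorem units_op_eq (B : Type u) [CommRing B] [Algebra k B] (u v : Bˣ) :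
    ((op B u v : Bˣ) : B) = algebraMap k B ((c⁻¹ : kˣ) : k) * u * v := by
  let D := k[T;T⁻¹]
  let B₂ := D[T;T⁻¹]
  let cD : Dˣ := Units.map (algebraMap k D : k →* D) c
  let TD : Dˣ := unitT k
  let X₂ : B₂ˣ := Units.map (C : D →+* B₂) TD
  let Y₂ : B₂ˣ := unitT D
  let P : B₂ˣ := op B₂ X₂ Y₂
  obtain ⟨d, n, hP⟩ := exists_eq_C_mul_T_of_isUnit (P : B₂) P.isUnit
  obtain ⟨l, m, hd⟩ := exists_eq_C_mul_T_of_isUnit (d : D) d.isUnit
  -- the three evaluation maps
  let τ : B₂ →ₐ[k] D := evalAlg k (AlgHom.id k D) cD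
  let ev : D →ₐ[k] k := evalAlg k (AlgHom.id k k) c
  let ρ : B₂ →ₐ[k] D := evalAlg k ((Algebra.ofId k D).comp ev) TD
  let g : B₂ →ₐ[k] B := evalAlg k (evalAlg k (Algebra.ofId k B) u) v
  have hτX : Units.map (τ : B₂ →* D) X₂ = TD := Units.ext (evalAlg_C k _ _ _)
  have hτY : Units.map (τ : B₂ →* D) Y₂ = cD := Units.ext (by
    change evalAlg k (AlgHom.id k D) cD (T 1) = _
    rw [evalAlg_T, zpow_one])
  have hρX : Units.map (ρ : B₂ →* D) X₂ = cD := Units.ext (by
    change evalAlg k ((Algebra.ofId k D).comp ev) TD (C (T 1)) = _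
    rw [evalAlg_C]
    change algebraMap k D (evalAlg k (AlgHom.id k k) c (T 1)) = _
    rw [evalAlg_T, zpow_one]
    rfl)
  have hρY : Units.map (ρ : B₂ →* D) Y₂ = TD := Units.ext (by
    change evalAlg k ((Algebra.ofId k D).comp ev) TD (T 1) = _
    rw [evalAlg_T, zpow_one])
  have hgX : Units.map (g : B₂ →* B) X₂ = u := Units.ext (by
    change evalAlg k (evalAlg k (Algebra.ofId k B) u) v (C (T 1)) = _
    rw [evalAlg_C, evalAlg_T, zpow_one])
  have hgY : Units.map (g : B₂ →* B) Y₂ = v := Units.ext (by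
    change evalAlg k (evalAlg k (Algebra.ofId k B) u) v (T 1) = _
    rw [evalAlg_T, zpow_one])
  -- apply `τ`
  have h1 : τ (P : B₂) = T 1 := by
    have := congrArg Units.val (hnat B₂ D τ X₂ Y₂)
    rw [hτX, hτY, hright D TD] at this
    exact this
  rw [hP] at h1
  have h1' : C ((l : k) * ((c ^ n : kˣ) : k)) * T m = (T 1 : D) := by
    rw [← h1]
    have e : τ (C (d : D) * T n) = (d : D) * ((cD ^ n : Dˣ) : D) := by
      change evalAlg k (AlgHom.id k D) cD (C (d : D) * T n) = _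
      rw [map_mul, evalAlg_C, evalAlg_T]
      rfl
    have e2 : ((cD ^ n : Dˣ) : D) = C ((c ^ n : kˣ) : k) := by
      rw [← map_zpow]
      rfl
    rw [e, e2, hd, map_mul]
    ring
  obtain ⟨hm, hl1⟩ := C_mul_T_eq_T_one _ _ h1'
  -- apply `ρ`
  have h2 : ρ (P : B₂) = T 1 := by
    have := congrArg Units.val (hnat B₂ D ρ X₂ Y₂)
    rw [hρX, hρY, hleft D TD] at this
    exact this
  rw [hP] at h2
  have h2' : C ((l : k) * ((c ^ m : kˣ) : k)) * T n = (T 1 : D) := by
    rw [← h2]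
    have e : ρ (C (d : D) * T n) = algebraMap k D (ev (d : D)) * T n := by
      change evalAlg k ((Algebra.ofId k D).comp ev) TD (C (d : D) * T n) = _
      rw [map_mul, evalAlg_C, evalAlg_T, unitT_zpow]
      rfl
    have e2 : ev (d : D) = (l : k) * ((c ^ m : kˣ) : k) := by
      rw [hd]
      change evalAlg k (AlgHom.id k k) c (C (l : k) * T m) = _
      rw [map_mul, evalAlg_C, evalAlg_T]
      rfl
    rw [e, e2]
    rfl
  obtain ⟨hn, hl2⟩ := C_mul_T_eq_T_one _ _ h2'
  subst hm hn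
  rw [zpow_one] at hl2
  have hl : (l : k) = ((c⁻¹ : kˣ) : k) := by
    rw [Units.val_inv_eq_inv_val]
    exact eq_inv_of_mul_eq_one_left hl2
  -- apply `g`
  have h3 : ((op B u v : Bˣ) : B) = g (P : B₂) := by
    have := congrArg Units.val (hnat B₂ B g X₂ Y₂)
    rw [hgX, hgY] at this
    exact this.symm
  rw [h3, hP]
  change evalAlg k (evalAlg k (Algebra.ofId k B) u) v (C (d : D) * T 1) = _
  rw [map_mul, evalAlg_C, evalAlg_T, hd, map_mul, evalAlg_C, evalAlg_T, zpow_one, zpow_one, hl]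
  rfl

end Abstract

end Groth.Agent.Lib.Helper6.GaGm
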