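import Mathlib
import Groth.Prelude.Def_GmPts
import Groth.Agent.Lib.Helper6.GaGm.Points
import Groth.Agent.Lib.Helper6.GaGm.GaPts
import Groth.Agent.Lib.Helper6.GaGm.AlgGa

/-!
# Uniqueness of the group law on `𝔾_a` over a field
-/

open CategoryTheory CategoryTheory.Limits MonoidalCategory CartesianMonoidalCategory MonObj
  AlgebraicGeometry Opposite

namespace Groth.Agent.Lib.Helper6.GaGm

universe u

variable (k : Type u) [Field k]

section Beta

variable {R : CommRingCat.{u}} (φ : CommRingCat.of k ⟶ R)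

/-- Points of `𝔾_a` over an affine test object are elements. -/
noncomputable def αR (t : TR k φ ⟶ Red.Ga (Sk k)) : (R : Type u) :=
  (Scheme.ΓSpecIso R).hom.hom (fnOfPt t)

/-- The inverse construction. -/
noncomputable def αRinv (v : (R : Type u)) : TR k φ ⟶ Red.Ga (Sk k) :=
  ptOfFn (T := TR k φ) ((Scheme.ΓSpecIso R).inv.hom v)

lemma αR_αRinv (v : (R : Type u)) : αR k φ (αRinv k φ v) = v := by
  unfold αR αRinv
  rw [fnOfPt_ptOfFn]
  change (Scheme.ΓSpecIso R).hom.hom ((Scheme.ΓSpecIso R).inv.hom v) = v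
  rw [← CommRingCat.comp_apply, Iso.inv_hom_id]
  rfl

lemma αRinv_αR (t : TR k φ ⟶ Red.Ga (Sk k)) : αRinv k φ (αR k φ t) = t := by
  unfold αR αRinv
  have : (Scheme.ΓSpecIso R).inv.hom ((Scheme.ΓSpecIso R).hom.hom (fnOfPt t)) = fnOfPt t := by
    rw [← CommRingCat.comp_apply, Iso.hom_inv_id]
    rfl
  rw [this, ptOfFn_fnOfPt]

lemma αR_injective : Function.Injective (αR k φ) := fun a b hab => by
  rw [← αRinv_αR k φ a, ← αRinv_αR k φ b, hab]

variable {R' : CommRingCat.{u}} (φ' : CommRingCat.of k ⟶ R') (g : R ⟶ R') (hg : φ ≫ g = φ')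

lemma αR_TRmap (t : TR k φ ⟶ Red.Ga (Sk k)) :
    αR k φ' (TRmap k φ φ' g hg ≫ t) = g.hom (αR k φ t) := by
  unfold αR
  rw [fnOfPt_comp]
  change (Scheme.ΓSpecIso R').hom.hom ((Spec.map g).appTop.hom _) =
    g.hom ((Scheme.ΓSpecIso R).hom.hom _)
  rw [← CommRingCat.comp_apply, ← CommRingCat.comp_apply, Scheme.ΓSpecIso_naturality]

lemma TRmap_αRinv (v : (R : Type u)) :
    TRmap k φ φ' g hg ≫ αRinv k φ v = αRinv k φ' (g.hom v) := by
  apply αR_injective k φ'
  rw [αR_TRmap, αR_αRinv, αR_αRinv]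

end Beta

section Main

variable (h : GrpObj (Red.Ga (Sk k)))

/-- The operation on elements induced by a group law. -/
noncomputable def opA {R : CommRingCat.{u}} (φ : CommRingCat.of k ⟶ R) (u v : (R : Type u)) :
    (R : Type u) :=
  αR k φ (lift (αRinv k φ u) (αRinv k φ v) ≫ h.mul)

/-- The unit point over an affine test object. -/
noncomputable def cA {R : CommRingCat.{u}} (φ : CommRingCat.of k ⟶ R) : (R : Type u) :=
  αR k φ (toUnit _ ≫ h.one)

lemma opA_nat {R R' : CommRingCat.{u}} (φ : CommRingCat.of k ⟶ R) (φ' : CommRingCat.of k ⟶ R')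
    (g : R ⟶ R') (hg : φ ≫ g = φ') (u v : (R : Type u)) :
    g.hom (opA k h φ u v) = opA k h φ' (g.hom u) (g.hom v) := by
  unfold opA
  rw [← αR_TRmap k φ φ' g hg, ← Category.assoc, comp_lift, TRmap_αRinv, TRmap_αRinv]

lemma cA_nat {R R' : CommRingCat.{u}} (φ : CommRingCat.of k ⟶ R) (φ' : CommRingCat.of k ⟶ R')
    (g : R ⟶ R') (hg : φ ≫ g = φ') :
    g.hom (cA k h φ) = cA k h φ' := by
  unfold cA
  rw [← αR_TRmap k φ φ' g hg, ← Category.assoc]
  congr 2
  exact toUnit_unique _ _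

lemma opA_left {R : CommRingCat.{u}} (φ : CommRingCat.of k ⟶ R) (u : (R : Type u)) :
    opA k h φ (cA k h φ) u = u := by
  unfold opA cA
  rw [αRinv_αR, one_left h.toMonObj, αR_αRinv]

lemma opA_right {R : CommRingCat.{u}} (φ : CommRingCat.of k ⟶ R) (u : (R : Type u)) :
    opA k h φ u (cA k h φ) = u := by
  unfold opA cA
  rw [αRinv_αR, one_right h.toMonObj, αR_αRinv]

lemma opA_assoc {R : CommRingCat.{u}} (φ : CommRingCat.of k ⟶ R) (u v w : (R : Type u)) :
    opA k h φ (opA k h φ u v) w = opA k h φ u (opA k h φ v w) := by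
  unfold opA
  rw [αRinv_αR, αRinv_αR, lift_assoc h.toMonObj]

lemma opA_inv {R : CommRingCat.{u}} (φ : CommRingCat.of k ⟶ R) (u : (R : Type u)) :
    ∃ u', opA k h φ u' u = cA k h φ := by
  refine ⟨αR k φ (αRinv k φ u ≫ h.inv), ?_⟩
  unfold opA cA
  rw [αRinv_αR, inv_left h]

/-- The group law on elements is `u + v - c`. -/
theorem opA_eq {R : CommRingCat.{u}} (φ : CommRingCat.of k ⟶ R) (u v : (R : Type u)) :
    opA k h φ u v = u + v - φ.hom (cA k h (𝟙 (CommRingCat.of k))) := by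
  letI : Algebra k R := φ.hom.toAlgebra
  have hc : ∀ (B : Type u) [CommRing B] [Algebra k B],
      algebraMap k B (cA k h (𝟙 (CommRingCat.of k))) =
        cA k h (R := CommRingCat.of B) (CommRingCat.ofHom (algebraMap k B)) := fun B _ _ =>
    cA_nat k h (𝟙 (CommRingCat.of k)) (CommRingCat.ofHom (algebraMap k B))
        (CommRingCat.ofHom (algebraMap k B)) (Category.id_comp _)
  have key := add_op_eq k
    (fun (B : Type u) [CommRing B] [Algebra k B] (u v : B) =>
      opA k h (R := CommRingCat.of B) (CommRingCat.ofHom (algebraMap k B)) u v)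
    (cA k h (𝟙 (CommRingCat.of k)))
    (fun B B' _ _ _ _ g u v =>
      opA_nat k h (R := CommRingCat.of B) (R' := CommRingCat.of B')
        (CommRingCat.ofHom (algebraMap k B)) (CommRingCat.ofHom (algebraMap k B'))
        (CommRingCat.ofHom g.toRingHom) (by
          rw [← CommRingCat.ofHom_comp]
          congr 1
          exact g.comp_algebraMap) u v)
    (fun B _ _ u => by
      have := opA_left k h (R := CommRingCat.of B) (CommRingCat.ofHom (algebraMap k B)) u
      rw [← hc B] at this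
      exact this)
    (fun B _ _ u => by
      have := opA_right k h (R := CommRingCat.of B) (CommRingCat.ofHom (algebraMap k B)) u
      rw [← hc B] at this
      exact this)
    (fun B _ _ u v w =>
      opA_assoc k h (R := CommRingCat.of B) (CommRingCat.ofHom (algebraMap k B)) u v w)
    (fun B _ _ u => by
      obtain ⟨u', hu'⟩ := opA_inv k h (R := CommRingCat.of B) (CommRingCat.ofHom (algebraMap k B)) u
      rw [← hc B] at hu'
      exact ⟨u', hu'⟩)
    R u v
  exact key

/-- The multiplication is determined by the unit. -/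
theorem fnOfPt_mul_eq :
    fnOfPt h.mul =
      fnOfPt (fst (Red.Ga (Sk k)) (Red.Ga (Sk k))) + fnOfPt (snd (Red.Ga (Sk k)) (Red.Ga (Sk k))) -
        (φT k (Red.Ga (Sk k) ⊗ Red.Ga (Sk k))).hom (cA k h (𝟙 (CommRingCat.of k))) := by
  let T₂ := Red.Ga (Sk k) ⊗ Red.Ga (Sk k)
  let x := fnOfPt (fst (Red.Ga (Sk k)) (Red.Ga (Sk k)))
  let y := fnOfPt (snd (Red.Ga (Sk k)) (Red.Ga (Sk k)))
  have hcan : ∀ p : TR k (φT k T₂) ⟶ Red.Ga (Sk k),
      fnOfPt (can k T₂ ≫ p) = αR k (φT k T₂) p := by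
    intro p
    rw [fnOfPt_comp, can_left_appTop]
    rfl
  have hfac : ∀ t : T₂ ⟶ Red.Ga (Sk k),
      can k T₂ ≫ αRinv k (φT k T₂) (fnOfPt t) = t := by
    intro t
    rw [← ptOfFn_fnOfPt (can k T₂ ≫ αRinv k (φT k T₂) (fnOfPt t)), hcan,
      αR_αRinv, ptOfFn_fnOfPt]
  have hμ : h.mul = can k T₂ ≫ (lift (αRinv k (φT k T₂) x) (αRinv k (φT k T₂) y) ≫ h.mul) := by
    rw [← Category.assoc, comp_lift, hfac, hfac, lift_fst_snd, Category.id_comp]
  have h1 : fnOfPt h.mul = opA k h (φT k T₂) x y := by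
    conv_lhs => rw [hμ]
    rw [hcan]
    rfl
  rw [h1]
  exact opA_eq k h (φT k T₂) x y

end Main

end Groth.Agent.Lib.Helper6.GaGm
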