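import Mathlib
import Groth.Prelude.Def_GmPts
import Groth.Agent.Lib.Helper6.GaGm.Points
import Groth.Agent.Lib.Helper6.GaGm.AlgGm

/-!
# Uniqueness of the group law on `𝔾_m` over a field
-/

open CategoryTheory CategoryTheory.Limits MonoidalCategory CartesianMonoidalCategory MonObj
  AlgebraicGeometry Opposite

namespace Groth.Agent.Lib.Helper6.GaGm

universe u

variable (k : Type u) [Field k]

section Beta

variable {R : CommRingCat.{u}} (φ : CommRingCat.of k ⟶ R)

/-- Points of `𝔾_m` over an affine test object are units. -/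
noncomputable def βR (t : TR k φ ⟶ Red.Gm (Sk k)) : (R : Type u)ˣ :=
  Units.map (Scheme.ΓSpecIso R).hom.hom.toMonoidHom (GmPts.unitOfPt t)

/-- The inverse construction. -/
noncomputable def βRinv (v : (R : Type u)ˣ) : TR k φ ⟶ Red.Gm (Sk k) :=
  GmPts.ptOfUnit (T := TR k φ) (Units.map (Scheme.ΓSpecIso R).inv.hom.toMonoidHom v)

lemma βR_βRinv (v : (R : Type u)ˣ) : βR k φ (βRinv k φ v) = v := by
  unfold βR βRinv
  rw [GmPts.unitOfPt_ptOfUnit]
  ext
  change (Scheme.ΓSpecIso R).hom.hom ((Scheme.ΓSpecIso R).inv.hom (v : R)) = v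
  rw [← CommRingCat.comp_apply, Iso.inv_hom_id]
  rfl

lemma βRinv_βR (t : TR k φ ⟶ Red.Gm (Sk k)) : βRinv k φ (βR k φ t) = t := by
  unfold βR βRinv
  have : Units.map (Scheme.ΓSpecIso R).inv.hom.toMonoidHom
      (Units.map (Scheme.ΓSpecIso R).hom.hom.toMonoidHom (GmPts.unitOfPt t)) = GmPts.unitOfPt t := by
    ext
    change (Scheme.ΓSpecIso R).inv.hom ((Scheme.ΓSpecIso R).hom.hom _) = _
    rw [← CommRingCat.comp_apply, Iso.hom_inv_id]
    rfl
  rw [this, GmPts.ptOfUnit_unitOfPt]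

lemma βR_injective : Function.Injective (βR k φ) := fun a b hab => by
  rw [← βRinv_βR k φ a, ← βRinv_βR k φ b, hab]

variable {R' : CommRingCat.{u}} (φ' : CommRingCat.of k ⟶ R') (g : R ⟶ R') (hg : φ ≫ g = φ')

lemma βR_TRmap (t : TR k φ ⟶ Red.Gm (Sk k)) :
    βR k φ' (TRmap k φ φ' g hg ≫ t) = Units.map g.hom.toMonoidHom (βR k φ t) := by
  unfold βR
  rw [GmPts.unitOfPt_comp]
  ext
  change (Scheme.ΓSpecIso R').hom.hom ((Spec.map g).appTop.hom _) =
    g.hom ((Scheme.ΓSpecIso R).hom.hom _)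
  rw [← CommRingCat.comp_apply, ← CommRingCat.comp_apply, Scheme.ΓSpecIso_naturality]

lemma TRmap_βRinv (v : (R : Type u)ˣ) :
    TRmap k φ φ' g hg ≫ βRinv k φ v = βRinv k φ' (Units.map g.hom.toMonoidHom v) := by
  apply βR_injective k φ'
  rw [βR_TRmap, βR_βRinv, βR_βRinv]

end Beta

section Main

variable (h : GrpObj (Red.Gm (Sk k)))

/-- The operation on units induced by a group law. -/
noncomputable def opR {R : CommRingCat.{u}} (φ : CommRingCat.of k ⟶ R) (u v : (R : Type u)ˣ) :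
    (R : Type u)ˣ :=
  βR k φ (lift (βRinv k φ u) (βRinv k φ v) ≫ h.mul)

/-- The unit point over an affine test object. -/
noncomputable def cR {R : CommRingCat.{u}} (φ : CommRingCat.of k ⟶ R) : (R : Type u)ˣ :=
  βR k φ (toUnit _ ≫ h.one)

lemma opR_nat {R R' : CommRingCat.{u}} (φ : CommRingCat.of k ⟶ R) (φ' : CommRingCat.of k ⟶ R')
    (g : R ⟶ R') (hg : φ ≫ g = φ') (u v : (R : Type u)ˣ) :
    Units.map g.hom.toMonoidHom (opR k h φ u v) =
      opR k h φ' (Units.map g.hom.toMonoidHom u) (Units.map g.hom.toMonoidHom v) := by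
  unfold opR
  rw [← βR_TRmap k φ φ' g hg, ← Category.assoc, comp_lift, TRmap_βRinv, TRmap_βRinv]

lemma cR_nat {R R' : CommRingCat.{u}} (φ : CommRingCat.of k ⟶ R) (φ' : CommRingCat.of k ⟶ R')
    (g : R ⟶ R') (hg : φ ≫ g = φ') :
    Units.map g.hom.toMonoidHom (cR k h φ) = cR k h φ' := by
  unfold cR
  rw [← βR_TRmap k φ φ' g hg, ← Category.assoc]
  congr 2
  exact toUnit_unique _ _

lemma opR_left {R : CommRingCat.{u}} (φ : CommRingCat.of k ⟶ R) (u : (R : Type u)ˣ) :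
    opR k h φ (cR k h φ) u = u := by
  unfold opR cR
  rw [βRinv_βR, one_left h.toMonObj, βR_βRinv]

lemma opR_right {R : CommRingCat.{u}} (φ : CommRingCat.of k ⟶ R) (u : (R : Type u)ˣ) :
    opR k h φ u (cR k h φ) = u := by
  unfold opR cR
  rw [βRinv_βR, one_right h.toMonObj, βR_βRinv]

/-- The group law on units is `c⁻¹ u v`. -/
theorem opR_eq {R : CommRingCat.{u}} (φ : CommRingCat.of k ⟶ R) (u v : (R : Type u)ˣ) :
    ((opR k h φ u v : (R : Type u)ˣ) : R) =
      φ.hom (((cR k h (𝟙 (CommRingCat.of k)))⁻¹ : kˣ) : k) * u * v := by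
  letI : Algebra k R := φ.hom.toAlgebra
  have key := units_op_eq k
    (fun (B : Type u) [CommRing B] [Algebra k B] (u v : Bˣ) =>
      opR k h (R := CommRingCat.of B) (CommRingCat.ofHom (algebraMap k B)) u v)
    (cR k h (𝟙 (CommRingCat.of k)))
    (fun B B' _ _ _ _ g u v =>
      opR_nat k h (R := CommRingCat.of B) (R' := CommRingCat.of B')
        (CommRingCat.ofHom (algebraMap k B)) (CommRingCat.ofHom (algebraMap k B'))
        (CommRingCat.ofHom g.toRingHom) (by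
          rw [← CommRingCat.ofHom_comp]
          congr 1
          exact g.comp_algebraMap) u v)
    (fun B _ _ u => by
      have := opR_left k h (R := CommRingCat.of B) (CommRingCat.ofHom (algebraMap k B)) u
      rw [← cR_nat k h (𝟙 (CommRingCat.of k)) (CommRingCat.ofHom (algebraMap k B))
        (CommRingCat.ofHom (algebraMap k B)) (Category.id_comp _)] at this
      exact this)
    (fun B _ _ u => by
      have := opR_right k h (R := CommRingCat.of B) (CommRingCat.ofHom (algebraMap k B)) u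
      rw [← cR_nat k h (𝟙 (CommRingCat.of k)) (CommRingCat.ofHom (algebraMap k B))
        (CommRingCat.ofHom (algebraMap k B)) (Category.id_comp _)] at this
      exact this)
    R u v
  exact key

/-- The multiplication is determined by the unit. -/
theorem unitOfPt_mul_eq :
    ((GmPts.unitOfPt h.mul : (Γ((Red.Gm (Sk k) ⊗ Red.Gm (Sk k)).left, ⊤))ˣ) :
        Γ((Red.Gm (Sk k) ⊗ Red.Gm (Sk k)).left, ⊤)) =
      (φT k (Red.Gm (Sk k) ⊗ Red.Gm (Sk k))).hom (((cR k h (𝟙 (CommRingCat.of k)))⁻¹ : kˣ) : k) *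
        ((GmPts.unitOfPt (fst (Red.Gm (Sk k)) (Red.Gm (Sk k))) :
          (Γ((Red.Gm (Sk k) ⊗ Red.Gm (Sk k)).left, ⊤))ˣ) :
          Γ((Red.Gm (Sk k) ⊗ Red.Gm (Sk k)).left, ⊤)) *
        ((GmPts.unitOfPt (snd (Red.Gm (Sk k)) (Red.Gm (Sk k))) :
          (Γ((Red.Gm (Sk k) ⊗ Red.Gm (Sk k)).left, ⊤))ˣ) :
          Γ((Red.Gm (Sk k) ⊗ Red.Gm (Sk k)).left, ⊤)) := by
  let T₂ := Red.Gm (Sk k) ⊗ Red.Gm (Sk k)
  let x := GmPts.unitOfPt (fst (Red.Gm (Sk k)) (Red.Gm (Sk k)))
  let y := GmPts.unitOfPt (snd (Red.Gm (Sk k)) (Red.Gm (Sk k)))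
  have hcan : ∀ p : TR k (φT k T₂) ⟶ Red.Gm (Sk k),
      GmPts.unitOfPt (can k T₂ ≫ p) = βR k (φT k T₂) p := by
    intro p
    rw [GmPts.unitOfPt_comp, can_left_appTop]
    rfl
  have hfac : ∀ t : T₂ ⟶ Red.Gm (Sk k),
      can k T₂ ≫ βRinv k (φT k T₂) (GmPts.unitOfPt t) = t := by
    intro t
    rw [← GmPts.ptOfUnit_unitOfPt (can k T₂ ≫ βRinv k (φT k T₂) (GmPts.unitOfPt t)), hcan,
      βR_βRinv, GmPts.ptOfUnit_unitOfPt]
  have hμ : h.mul = can k T₂ ≫ (lift (βRinv k (φT k T₂) x) (βRinv k (φT k T₂) y) ≫ h.mul) := by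
    rw [← Category.assoc, comp_lift, hfac, hfac, lift_fst_snd, Category.id_comp]
  have h1 : GmPts.unitOfPt h.mul = opR k h (φT k T₂) x y := by
    conv_lhs => rw [hμ]
    rw [hcan]
    rfl
  rw [h1]
  exact opR_eq k h (φT k T₂) x y

end Main

end Groth.Agent.Lib.Helper6.GaGm
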